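import Groth.Agent.CMFlatLib.Local
import Groth.Agent.CotTLib.CI

/-! Miracle flatness with positive dimensional closed fibre. -/

set_option autoImplicit false

universe u

open IsLocalRing RingTheory.Sequence

namespace Groth.Agent.MiracleGen

variable (R S : Type u) [CommRing R] [CommRing S] [IsLocalRing R] [IsLocalRing S]
  [IsNoetherianRing R] [IsNoetherianRing S] [Algebra R S] [IsLocalHom (algebraMap R S)]

/-- A Cohen–Macaulay extension of a regular local ring with `dim S = dim R + dim S/mS` is flat. -/
theorem flat_of_cm_of_dim [IsRegularLocalRing R] [LocCoh.IsCohenMacaulayLocalRing S] {e : ℕ}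
    (hfib : ringKrullDim (S ⧸ (maximalIdeal R).map (algebraMap R S)) = e)
    (hdim : ringKrullDim S = ringKrullDim R + e) : Module.Flat R S := by
  obtain ⟨d, hd⟩ := RegLocal.exists_nat_ringKrullDim R
  obtain ⟨x, hx⟩ := RegLocal.exists_generators R
  have hsd : (maximalIdeal R).spanFinrank = d := by
    exact_mod_cast (IsRegularLocalRing.spanFinrank_maximalIdeal (R := R)).trans hd
  let y : Fin d → R := x ∘ Fin.cast hsd.symm
  have hy : Ideal.span (Set.range y) = maximalIdeal R := by
    rw [← hx]
    congr 1
    exact (finCongr hsd.symm).surjective.range_comp x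
  have hlist : maximalIdeal R = Ideal.ofList (List.ofFn y) := by
    rw [← hy, Ideal.ofList]; congr 1; ext z; simp [List.mem_ofFn]
  have hle : (maximalIdeal R).map (algebraMap R S) ≤ maximalIdeal S := IsLocalRing.map_maximalIdeal_le _
  have hI : (maximalIdeal R).map (algebraMap R S) ≠ ⊤ := fun h =>
    (maximalIdeal.isMaximal S).ne_top (top_le_iff.1 (h.ge.trans hle))
  obtain ⟨ys, hlen, hys, hrad⟩ := CotTLib.exists_sop_quot _ hI hfib
  let L : List S := (List.ofFn y).map (algebraMap R S) ++ ys
  have hLlen : L.length = d + e := by simp [L, hlen]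
  let b : Fin L.length → S := L.get
  have hb : Ideal.span (Set.range b) = (maximalIdeal R).map (algebraMap R S) ⊔ Ideal.ofList ys := by
    rw [Set.range_list_get L]
    show Ideal.ofList ((List.ofFn y).map (algebraMap R S) ++ ys) = _
    rw [Ideal.ofList_append, hlist, Ideal.map_ofList]
  have hreg := LocCohLib.isWeaklyRegular_of_sop (R := S) (n := L.length) (b := b)
    (by rw [hdim, hd, hLlen, Nat.cast_add]) (by
      rw [hb]
      refine le_antisymm ((Ideal.IsPrime.radical_le_iff inferInstance).2 (sup_le hle ?_)) hrad
      exact Ideal.span_le.2 fun z hz => hys z hz)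
  rw [List.ofFn_get, isWeaklyRegular_append_iff] at hreg
  refine MiracleFlatLib.flat_of_isWeaklyRegular d R S (List.ofFn y) (List.length_ofFn) hlist
    (RegLocal.isRegular_of_generators R hd y hy).toIsWeaklyRegular ?_
  exact (isWeaklyRegular_map_algebraMap_iff S S (List.ofFn y)).1 hreg.1

end Groth.Agent.MiracleGen
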